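import Groth.Agent.InvX.GenEpi
import Groth.Agent.KFlatLib.Scheme.Sky
import Groth.Agent.QCoh.Stalk

/-!
# Global sections of a globally generated module span it on affine opens
-/

set_option autoImplicit false
set_option linter.style.haveILetI false
set_option backward.isDefEq.respectTransparency false
set_option backward.isDefEq.respectTransparency.types false

universe u

open CategoryTheory CategoryTheory.Limits AlgebraicGeometry TopologicalSpace Opposite

namespace Groth.Agent.ResolveLib

open Groth.Agent

variable {X : Scheme.{u}} {F : X.Modules}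

/-- Germs of global sections of a globally generated module span every stalk. -/
theorem generatedBy_of_gg (hgg : Curv2.IsGloballyGenerated F) :
    ProjUP.GeneratedBy F (fun t : Γ(F, ⊤) => t) := by
  intro x
  obtain ⟨ι, p, hp⟩ := hgg
  let R := X.presheaf.stalk x
  let P : Submodule R (F.presheaf.stalk x) :=
    Submodule.span R (Set.range fun t : Γ(F, ⊤) => (F.presheaf.germ ⊤ x trivial).hom t)
  let N : ModuleCat.{u} R := ModuleCat.of R (F.presheaf.stalk x ⧸ P)
  let g : F ⟶ KFlatLib.skyObjM x N :=
    ⟨{ app := fun V => ModuleCat.ofHom (Y := KFlatLib.skyObj x N V)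
        { toFun := fun a h => (P.mkQ ((F.presheaf.germ V.unop x h.down).hom a) : N)
          map_add' := fun a b => funext fun h => by
            show P.mkQ ((F.presheaf.germ V.unop x h.down).hom (a + b)) = _
            exact ((congrArg P.mkQ (map_add (F.presheaf.germ V.unop x h.down).hom a b)).trans
              (map_add P.mkQ _ _))
          map_smul' := fun r a => funext fun h => by
            show P.mkQ ((F.presheaf.germ V.unop x h.down).hom (r • a)) =
              (X.presheaf.germ V.unop x h.down r) • (P.mkQ ((F.presheaf.germ V.unop x h.down).hom a) : N)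
            exact ((congrArg P.mkQ (QCoh.germ_smul' F h.down r a)).trans
              (map_smul P.mkQ _ _)) }
       naturality := fun {V W} i => by
         ext a
         funext h
         exact congrArg P.mkQ (F.presheaf.germ_res_apply i.unop x h.down a) }⟩
  have hg0 : g = 0 := by
    rw [← cancel_epi p, Limits.comp_zero]
    refine Sigma.hom_ext _ _ fun i => ?_
    rw [Limits.comp_zero, ← Category.assoc]
    apply Scheme.Modules.hom_ext
    intro V
    ext a
    funext h
    show P.mkQ ((F.presheaf.germ V x h.down).hom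
      ((Sigma.ι (fun _ : ι => Coh.structureModule X) i ≫ p).app V a)) = 0
    rw [Submodule.mkQ_apply, Submodule.Quotient.mk_eq_zero]
    rw [show (Sigma.ι (fun _ : ι => Coh.structureModule X) i ≫ p).app V a =
      (show Γ(X, V) from a) • AModX.res F (le_top : V ≤ ⊤)
        (InvX.one (Sigma.ι (fun _ : ι => Coh.structureModule X) i ≫ p)) from InvX.app_eq_smul _ _]
    rw [QCoh.germ_smul' F h.down]
    refine Submodule.smul_mem _ _ ?_
    rw [show (F.presheaf.germ V x h.down).hom (AModX.res F (le_top : V ≤ ⊤)
        (InvX.one (Sigma.ι (fun _ : ι => Coh.structureModule X) i ≫ p))) =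
      (F.presheaf.germ ⊤ x trivial).hom (InvX.one (Sigma.ι (fun _ : ι => Coh.structureModule X) i ≫ p))
      from F.presheaf.germ_res_apply (homOfLE le_top) x h.down _]
    exact Submodule.subset_span ⟨_, rfl⟩
  refine eq_top_iff.2 fun z _ => ?_
  obtain ⟨U, hxU, e, rfl⟩ := TopCat.Presheaf.exists_germ_eq F.presheaf z
  refine (Submodule.Quotient.mk_eq_zero P).1 ?_
  exact congrFun (congrArg (fun φ => (φ : F ⟶ KFlatLib.skyObjM x N).app U e) hg0) ⟨hxU⟩

/-- Sections spanning the germs on an affine open span the sections. -/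
theorem span_eq_top_of_germs (hq : Coh.IsQCoh F) {U : X.Opens} (hU : IsAffineOpen U) {κ : Type*}
    (s : κ → Γ(F, U))
    (hs : ∀ (x : X) (hx : x ∈ U), Submodule.span (X.presheaf.stalk x)
      (Set.range fun i => (F.presheaf.germ U x hx).hom (s i)) = ⊤) :
    Submodule.span Γ(X, U) (Set.range s) = ⊤ := by
  refine eq_top_iff.2 fun m _ => ?_
  by_contra hm
  let I : Ideal Γ(X, U) := (Submodule.span Γ(X, U) (Set.range s)).comap (LinearMap.toSpanSingleton Γ(X, U) _ m)
  have hI : I ≠ ⊤ := fun h => hm (by
    have : (1 : Γ(X, U)) ∈ I := h ▸ trivial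
    simpa [I] using this)
  obtain ⟨P, hP, hIP⟩ := I.exists_le_maximal hI
  obtain ⟨x, hx, hxP⟩ := QCoh.exists_point hU ⟨P, hP.isPrime⟩
  letI := QCoh.stalkAlg (X := X) (U := U) hx
  letI := QCoh.stalkModule F hx
  haveI := QCoh.isScalarTower_stalk F hx
  haveI := QCoh.isLocalization_stalk' hU hx
  haveI := QCoh.isLocalizedModule_germLin hq hU hx
  have h1 : Submodule.localized' (X.presheaf.stalk x) (hU.primeIdealOf ⟨x, hx⟩).asIdeal.primeCompl
      (QCoh.germLin F hx) (Submodule.span Γ(X, U) (Set.range s)) = ⊤ := by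
    rw [Submodule.localized'_span, ← Set.range_comp]
    exact hs x hx
  have h2 : QCoh.germLin F hx m ∈ Submodule.localized' (X.presheaf.stalk x)
      (hU.primeIdealOf ⟨x, hx⟩).asIdeal.primeCompl (QCoh.germLin F hx) (Submodule.span Γ(X, U) (Set.range s)) :=
    h1 ▸ trivial
  obtain ⟨y, hy, ⟨t, ht⟩, hyt⟩ := h2
  rw [IsLocalizedModule.mk'_eq_iff] at hyt
  obtain ⟨⟨c, hc⟩, hcy⟩ := IsLocalizedModule.exists_of_eq (S := (hU.primeIdealOf ⟨x, hx⟩).asIdeal.primeCompl)
    (f := QCoh.germLin F hx) (show QCoh.germLin F hx y = QCoh.germLin F hx (t • m) by rw [map_smul]; exact hyt)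
  have hmem : c * t ∈ I := by
    show (c * t) • m ∈ Submodule.span Γ(X, U) (Set.range s)
    rw [mul_smul]
    exact hcy ▸ Submodule.smul_mem _ c hy
  have := hIP hmem
  rw [hxP] at hc ht
  exact (hP.isPrime.mem_or_mem this).elim hc ht

/-- Restrictions of global sections span the sections on an affine open. -/
theorem span_res_eq_top (hgg : Curv2.IsGloballyGenerated F) (hq : Coh.IsQCoh F) {U : X.Opens}
    (hU : IsAffineOpen U) :
    Submodule.span Γ(X, U) (Set.range fun t : Γ(F, ⊤) => AModX.res F (le_top : U ≤ ⊤) t) = ⊤ := by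
  refine span_eq_top_of_germs hq hU _ fun x hx => ?_
  refine Eq.trans ?_ (generatedBy_of_gg hgg x)
  congr 1
  ext z
  constructor
  · rintro ⟨t, rfl⟩; exact ⟨t, (InvX.germ_res' le_top hx t).symm⟩
  · rintro ⟨t, rfl⟩; exact ⟨t, InvX.germ_res' le_top hx t⟩

end Groth.Agent.ResolveLib
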