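import Groth.Agent.SiteBase.Cohom
import Groth.Agent.SiteBase.AbSecExact
import Groth.Prelude.Def_CohTop
import Mathlib.Topology.Sheaves.SheafCondition.UniqueGluing

/-!
# First cohomology of a union of two opens
-/

set_option autoImplicit false

universe u

open CategoryTheory CategoryTheory.Limits TopologicalSpace Opposite

namespace Groth.Agent.ResolveLib.TwoCover

variable {X : TopCat.{u}}

private theorem sub_swap {G : Type*} [AddCommGroup G] {A B P Q : G} (h : P - Q = A - B) :
    A - P = B - Q := by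
  rw [sub_eq_sub_iff_add_eq_add] at h ⊢
  rw [add_comm B P, h]

/-- The same for the first term of a short exact sequence with acyclic middle term. -/
theorem aux {S : ShortComplex (CohTop.Ab X)} (hS : S.ShortExact) (U V : Opens X)
    (h₂ : Subsingleton (CohTop.HU S.X₂ 1 (U ⊔ V)))
    (hU : Subsingleton (CohTop.HU S.X₁ 1 U)) (hV : Subsingleton (CohTop.HU S.X₁ 1 V))
    (hd : ∀ d : S.X₁.obj.obj (op (U ⊓ V)), ∃ a b,
      S.X₁.obj.map (homOfLE (inf_le_left : U ⊓ V ≤ U)).op a -
        S.X₁.obj.map (homOfLE (inf_le_right : U ⊓ V ≤ V)).op b = d) :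
    Subsingleton (CohTop.HU S.X₁ 1 (U ⊔ V)) := by
  refine SiteBase.subsingleton_HU_one_X₁ hS (U ⊔ V) h₂ fun s => ?_
  let jU : U ⟶ U ⊔ V := homOfLE le_sup_left
  let jV : V ⟶ U ⊔ V := homOfLE le_sup_right
  let kU : U ⊓ V ⟶ U := homOfLE inf_le_left
  let kV : U ⊓ V ⟶ V := homOfLE inf_le_right
  obtain ⟨iU, hiU⟩ := SiteBase.surjective_sections_of_HU_one hS U hU (S.X₃.obj.map jU.op s)
  obtain ⟨iV, hiV⟩ := SiteBase.surjective_sections_of_HU_one hS V hV (S.X₃.obj.map jV.op s)
  have hex := (hS.exact.map_of_mono_of_preservesKernel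
    (sheafToPresheaf (Opens.grothendieckTopology X) AddCommGrpCat.{u} ⋙
      (evaluation _ AddCommGrpCat.{u}).obj (op (U ⊓ V))) hS.mono_f inferInstance)
  rw [ShortComplex.ab_exact_iff] at hex
  have nat : ∀ {A B : Opens X} (h : B ⟶ A) {G H : CohTop.Ab X} (φ : G ⟶ H) (x : G.obj.obj (op A)),
      φ.hom.app (op B) (G.obj.map h.op x) = H.obj.map h.op (φ.hom.app (op A) x) := fun h G H φ x =>
    ConcreteCategory.congr_hom (φ.hom.naturality h.op) x
  obtain ⟨d, hd'⟩ := hex (S.X₂.obj.map kU.op iU - S.X₂.obj.map kV.op iV) (by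
    show S.g.hom.app (op (U ⊓ V)) _ = 0
    rw [map_sub, nat, nat, hiU, hiV, ← ConcreteCategory.comp_apply, ← Functor.map_comp,
      ← ConcreteCategory.comp_apply, ← Functor.map_comp, sub_eq_zero]
    rfl)
  obtain ⟨a, b, hab⟩ := hd d
  let cU := iU - S.f.hom.app (op U) a
  let cV := iV - S.f.hom.app (op V) b
  have hg0 : ∀ (W : Opens X) (x : S.X₁.obj.obj (op W)),
      S.g.hom.app (op W) (S.f.hom.app (op W) x) = 0 := fun W x => by
    rw [← ConcreteCategory.comp_apply, ← NatTrans.comp_app]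
    show ((S.f ≫ S.g).hom.app (op W)) x = 0
    rw [S.zero]; rfl
  have hc : S.X₂.obj.map kU.op cU = S.X₂.obj.map kV.op cV := by
    have h1 : S.f.hom.app (op (U ⊓ V)) d = S.f.hom.app (op (U ⊓ V)) (S.X₁.obj.map kU.op a) -
        S.f.hom.app (op (U ⊓ V)) (S.X₁.obj.map kV.op b) := by
      rw [← map_sub]; exact congrArg _ hab.symm
    change S.f.hom.app (op (U ⊓ V)) d = _ at hd'
    rw [h1, nat, nat] at hd'
    simp only [cU, cV, map_sub]
    exact sub_swap hd'
  let W : Bool → Opens X := fun i => cond i U V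
  let sf : ∀ i : Bool, ToType (S.X₂.obj.obj (op (W i))) := fun i => match i with
    | true => cU
    | false => cV
  have hcompat : TopCat.Presheaf.IsCompatible S.X₂.obj W sf := by
    intro i j
    match i, j with
    | true, true => rfl
    | false, false => rfl
    | true, false => exact hc
    | false, true =>
      have e : V ⊓ U ⟶ U ⊓ V := homOfLE (le_of_eq (inf_comm V U))
      have h2 := congrArg (S.X₂.obj.map e.op) hc.symm
      rw [← ConcreteCategory.comp_apply, ← Functor.map_comp, ← ConcreteCategory.comp_apply,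
        ← Functor.map_comp] at h2
      exact h2
  have hle : ∀ i, W i ≤ U ⊔ V := fun i => by cases i <;> simp [W]
  have hcover : U ⊔ V ≤ iSup W := sup_le (le_iSup W true) (le_iSup W false)
  obtain ⟨c, hc', -⟩ := TopCat.Sheaf.existsUnique_gluing' S.X₂ W (U ⊔ V)
    (fun i => homOfLE (hle i)) hcover sf hcompat
  refine ⟨c, TopCat.Sheaf.eq_of_locally_eq₂ S.X₃ jU jV le_rfl _ _ ?_ ?_⟩
  · rw [← nat, show S.X₂.obj.map jU.op c = cU from hc' true]
    simp only [cU, map_sub, hg0, hiU, sub_zero]
  · rw [← nat, show S.X₂.obj.map jV.op c = cV from hc' false]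
    simp only [cV, map_sub, hg0, hiV, sub_zero]

/-- If `H¹` vanishes on `U` and `V` and every section on `U ⊓ V` is a difference of sections on `U`
and on `V`, then `H¹` vanishes on `U ⊔ V`. -/
theorem subsingleton_HU_one_sup (F : CohTop.Ab X) (U V : Opens X)
    (hU : Subsingleton (CohTop.HU F 1 U)) (hV : Subsingleton (CohTop.HU F 1 V))
    (hd : ∀ d : F.obj.obj (op (U ⊓ V)), ∃ a b,
      F.obj.map (homOfLE (inf_le_left : U ⊓ V ≤ U)).op a -
        F.obj.map (homOfLE (inf_le_right : U ⊓ V ≤ V)).op b = d) :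
    Subsingleton (CohTop.HU F 1 (U ⊔ V)) :=
  haveI : Injective (SiteBase.injectiveSES (J := Opens.grothendieckTopology X) F).X₂ :=
    SiteBase.injective_injectiveSES_X₂ F
  aux (SiteBase.injectiveSES_shortExact (J := Opens.grothendieckTopology X) F) U V
    (SiteBase.subsingleton_HU_of_injective _ _ 0) hU hV hd

end Groth.Agent.ResolveLib.TwoCover
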