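import Groth.Agent.CplFib6.SemiLocal

/-!
# The completion of a finite algebra along the maximal ideal of the base
-/

set_option linter.style.haveILetI false

namespace Groth.Agent.ResolveLib

universe u

open IsLocalRing TensorProduct
open Groth.Agent Groth.Agent.CplFib6

attribute [local instance] Algebra.TensorProduct.rightAlgebra in
/-- The completion of a finite algebra along the maximal ideal of the base is the base change of the
completion. -/
theorem exists_cplEquiv (A C : Type u) [CommRing A] [IsNoetherianRing A] [IsLocalRing A] [CommRing C]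
    [Algebra A C] [Module.Finite A C] :
    Nonempty (AdicCompletion ((maximalIdeal A).map (algebraMap A C)) C ≃+* C ⊗[A] EGA4.Cpl A) := by
  haveI := FlatLoc6.isNoetherianRing_cpl A
  haveI := FlatLoc6.faithfullyFlat_cpl A
  haveI : IsNoetherianRing C := IsNoetherianRing.of_finite A C
  let m := maximalIdeal A
  have fg : m.FG := IsNoetherian.noetherian _
  let J : Ideal C := m.map (algebraMap A C)
  haveI : Module.Finite (EGA4.Cpl A) (C ⊗[A] EGA4.Cpl A) := by
    refine RingHom.finite_algebraMap.1 ?_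
    have h1 : (algebraMap (EGA4.Cpl A) (EGA4.Cpl A ⊗[A] C)).Finite := RingHom.finite_algebraMap.2 inferInstance
    have e : algebraMap (EGA4.Cpl A) (C ⊗[A] EGA4.Cpl A) =
        (Algebra.TensorProduct.comm A (EGA4.Cpl A) C).toRingEquiv.toRingHom.comp
          (algebraMap (EGA4.Cpl A) (EGA4.Cpl A ⊗[A] C)) := RingHom.ext fun d => by
      show (1 : C) ⊗ₜ[A] d = Algebra.TensorProduct.comm A (EGA4.Cpl A) C (d ⊗ₜ[A] 1)
      rw [Algebra.TensorProduct.comm_tmul]
    rw [e]
    exact (RingHom.Finite.of_surjective _ (Algebra.TensorProduct.comm A (EGA4.Cpl A) C).surjective).comp h1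
  haveI hC : IsAdicComplete m (EGA4.Cpl A) := AdicCompletion.isAdicComplete fg
  haveI : IsAdicComplete (m.map (algebraMap A (EGA4.Cpl A))) (EGA4.Cpl A) :=
    (IsAdicComplete.map_algebraMap_iff _ _).mpr hC
  haveI : IsAdicComplete (m.map (algebraMap A (EGA4.Cpl A))) (C ⊗[A] EGA4.Cpl A) :=
    Adic7.isAdicComplete_of_finite (A := EGA4.Cpl A) _ _
  haveI : IsAdicComplete m (C ⊗[A] EGA4.Cpl A) :=
    (IsAdicComplete.map_algebraMap_iff (S := EGA4.Cpl A) m (C ⊗[A] EGA4.Cpl A)).mp inferInstance
  haveI : IsAdicComplete (m.map (algebraMap A (C ⊗[A] EGA4.Cpl A))) (C ⊗[A] EGA4.Cpl A) :=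
    (IsAdicComplete.map_algebraMap_iff _ _).mpr inferInstance
  have hmJ : m.map (algebraMap A C) ≤ J := le_rfl
  have e : m.map (algebraMap A (C ⊗[A] EGA4.Cpl A)) = (m.map (algebraMap A C)).map (algebraMap C (C ⊗[A] EGA4.Cpl A)) := by
    rw [Ideal.map_map, ← IsScalarTower.algebraMap_eq]
  haveI : IsAdicComplete (J.map (algebraMap C (C ⊗[A] EGA4.Cpl A))) (C ⊗[A] EGA4.Cpl A) :=
    e ▸ inferInstance
  haveI : Module.FaithfullyFlat C (C ⊗[A] EGA4.Cpl A) := inferInstance
  refine CplFib6.exists_complEquiv (R := C ⊗[A] EGA4.Cpl A) J fun n r => ?_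
  have hle : (m ^ n).map (algebraMap A (C ⊗[A] EGA4.Cpl A)) ≤ (J ^ n).map (algebraMap C (C ⊗[A] EGA4.Cpl A)) := by
    rw [IsScalarTower.algebraMap_eq A C (C ⊗[A] EGA4.Cpl A), ← Ideal.map_map, Ideal.map_pow]
  induction r using TensorProduct.induction_on with
  | zero => exact ⟨0, by simp⟩
  | add x y hx hy =>
    obtain ⟨a, ha⟩ := hx; obtain ⟨b, hb⟩ := hy
    refine ⟨a + b, ?_⟩
    rw [map_add, add_sub_add_comm]
    exact add_mem ha hb
  | tmul c x =>
    obtain ⟨a, ha⟩ := Submodule.mkQ_surjective _ (AdicCompletion.eval m A n x)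
    refine ⟨c * algebraMap A C a, hle ?_⟩
    have h1 : x - algebraMap A (EGA4.Cpl A) a ∈ (m ^ n).map (algebraMap A (EGA4.Cpl A)) := by
      rw [map_pow_eq_ker m fg, map_sub, ← ha, sub_eq_zero]
      exact (AdicCompletion.eval_of m A n a).symm
    have h2 := Ideal.mem_map_of_mem (Algebra.TensorProduct.includeRight (R := A) (A := C) (B := EGA4.Cpl A)).toRingHom h1
    rw [Ideal.map_map, show (Algebra.TensorProduct.includeRight (R := A) (A := C) (B := EGA4.Cpl A)).toRingHom.comp
      (algebraMap A (EGA4.Cpl A)) = algebraMap A (C ⊗[A] EGA4.Cpl A) from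
      (Algebra.TensorProduct.includeRight (R := A) (A := C) (B := EGA4.Cpl A)).comp_algebraMap] at h2
    have h4 : c ⊗ₜ[A] x - algebraMap C (C ⊗[A] EGA4.Cpl A) (c * algebraMap A C a) =
        (c ⊗ₜ[A] (1 : EGA4.Cpl A)) *
          (Algebra.TensorProduct.includeRight (R := A) (A := C) (B := EGA4.Cpl A)).toRingHom (x - algebraMap A (EGA4.Cpl A) a) := by
      rw [Algebra.TensorProduct.algebraMap_apply, Algebra.algebraMap_self, RingHom.id_apply]
      simp [mul_sub, Algebra.TensorProduct.tmul_mul_tmul, Algebra.algebraMap_eq_smul_one]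
      rw [TensorProduct.tmul_sub, TensorProduct.smul_tmul]
    rw [h4]
    exact Ideal.mul_mem_left _ _ h2

end Groth.Agent.ResolveLib
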