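import Groth.Agent.S0568
import Groth.Agent.S0566
import Groth.Agent.S9407
import Groth.Agent.CAlgOdd.NagataFT.Local
import Mathlib.RingTheory.Flat.FaithfullyFlat.Basic
import Mathlib.RingTheory.Finiteness.Descent
import Mathlib.RingTheory.Localization.BaseChange
import Mathlib.RingTheory.Etale.Basic
import Mathlib.RingTheory.Smooth.Basic

/-!
# Finiteness of normalization over an analytically unramified local ring, generically étale case
-/

set_option autoImplicit false
set_option linter.style.haveILetI false
set_option backward.isDefEq.respectTransparency false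
set_option backward.isDefEq.respectTransparency.types false

universe u

open TensorProduct nonZeroDivisors

namespace Groth.Agent.ResolveLib

/-- An integral subalgebra of the total fractions of a reduced Nagata ring is a finite module. -/
theorem finite_of_injective_pi {R T : Type u} [CommRing R] [CommRing T] [Algebra R T]
    (hR : CAlg.IsNagata R) [Algebra.IsIntegral R T]
    (Ψ : T →+* ∀ p : minimalPrimes R, FractionRing (R ⧸ p.1))
    (hΨ : ∀ r p, Ψ (algebraMap R T r) p = algebraMap (R ⧸ p.1) _ (Ideal.Quotient.mk p.1 r))
    (hinj : Function.Injective Ψ) : Module.Finite R T := by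
  haveI : IsNoetherianRing R := hR.1
  haveI : Finite (minimalPrimes R) := (minimalPrimes.finite_of_isNoetherianRing R).to_subtype
  haveI : ∀ p : minimalPrimes R, p.1.IsPrime := fun p => p.2.1.1
  let M := ∀ p : minimalPrimes R, integralClosure (R ⧸ p.1) (FractionRing (R ⧸ p.1))
  haveI : ∀ p : minimalPrimes R,
      Module.Finite R (integralClosure (R ⧸ p.1) (FractionRing (R ⧸ p.1))) := fun p => by
    haveI := hR.2 p.1 (FractionRing (R ⧸ p.1)) inferInstance
    exact Module.Finite.trans (R ⧸ p.1) _
  have hmem : ∀ (t : T) (p : minimalPrimes R),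
      Ψ t p ∈ integralClosure (R ⧸ p.1) (FractionRing (R ⧸ p.1)) := fun t p => by
    obtain ⟨P, hP, hPt⟩ := Algebra.IsIntegral.isIntegral (R := R) t
    refine ⟨P.map (Ideal.Quotient.mk p.1), hP.map _, ?_⟩
    rw [Polynomial.eval₂_map]
    let g := (Pi.evalRingHom (fun p : minimalPrimes R => FractionRing (R ⧸ p.1)) p).comp Ψ
    have := congrArg g hPt
    rw [Polynomial.hom_eval₂, map_zero] at this
    rw [← this]
    congr 1
    exact RingHom.ext fun r => (hΨ r p).symm
  let L : T →ₗ[R] M :=
    { toFun := fun t p => ⟨Ψ t p, hmem t p⟩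
      map_add' := fun a b => funext fun p => Subtype.ext (by
        show Ψ (a + b) p = Ψ a p + Ψ b p
        rw [map_add]; rfl)
      map_smul' := fun r t => funext fun p => Subtype.ext (by
        show Ψ (r • t) p = _
        rw [Algebra.smul_def, map_mul, Pi.mul_apply, hΨ, RingHom.id_apply, Pi.smul_apply,
          Algebra.smul_def, Subalgebra.coe_mul]
        rfl) }
  exact Module.Finite.of_injective L fun a b h =>
    hinj (funext fun p => congrArg Subtype.val (congrFun h p))

/-- N-1 descends from a reduced Nagata faithfully flat algebra. -/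
theorem finite_integralClosure_of_faithfullyFlat {B R : Type u} [CommRing B] [IsDomain B]
    [CommRing R] [Algebra B R] [Module.FaithfullyFlat B R] [IsReduced R] (hR : CAlg.IsNagata R) :
    Module.Finite B (integralClosure B (FractionRing B)) := by
  haveI : IsNoetherianRing R := hR.1
  let K := FractionRing B
  let B' := integralClosure B K
  let F := fun p : minimalPrimes R => FractionRing (R ⧸ p.1)
  haveI : ∀ p : minimalPrimes R, p.1.IsPrime := fun p => p.2.1.1
  let ψ₀ : R →+* ∀ p, F p := RingHom.pi fun p =>
    (algebraMap (R ⧸ p.1) (F p)).comp (Ideal.Quotient.mk p.1)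
  let S := Algebra.algebraMapSubmonoid R B⁰
  have hunit : ∀ s : S, IsUnit (ψ₀ s.1) := by
    rintro ⟨_, n, hn, rfl⟩
    refine Pi.isUnit_iff.2 fun p => ?_
    refine IsUnit.mk0 _ fun h0 => ?_
    have hp : algebraMap B R n ∈ p.1 :=
      Ideal.Quotient.eq_zero_iff_mem.1 ((IsFractionRing.injective (R ⧸ p.1) (F p)) (h0.trans (map_zero _).symm))
    refine notMem_nonZeroDivisors_of_mem_mem_minimalPrimes hp p.2 ?_
    refine mem_nonZeroDivisors_iff_right.2 fun x hx =>
      (Module.Flat.isSMulRegular_of_nonZeroDivisors (M := R) hn) ?_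
    show n • x = n • 0
    rw [smul_zero, Algebra.smul_def, mul_comm]; exact hx
  haveI : IsLocalization S (R ⊗[B] K) := IsLocalization.tensor (R := B) (S := R) K B⁰
  let Ψ : R ⊗[B] K →+* ∀ p, F p := IsLocalization.lift (M := S) hunit
  have hΨinj : Function.Injective Ψ := by
    refine (injective_iff_map_eq_zero Ψ).2 fun x hx => ?_
    obtain ⟨r, s, rfl⟩ := IsLocalization.exists_mk'_eq S x
    rw [IsLocalization.mk'_eq_zero_iff]
    refine ⟨1, ?_⟩
    have h : ψ₀ r = 0 := by
      have := congrArg (· * ψ₀ s.1) hx
      simp only [zero_mul] at this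
      have e1 : Ψ (algebraMap R (R ⊗[B] K) r) = ψ₀ r := IsLocalization.lift_eq (S := R ⊗[B] K) hunit r
      have e2 : Ψ (algebraMap R (R ⊗[B] K) s.1) = ψ₀ s.1 := IsLocalization.lift_eq (S := R ⊗[B] K) hunit s.1
      rw [← this, ← e1, ← e2, ← map_mul, IsLocalization.mk'_spec]
    rw [OneMemClass.coe_one, one_mul]
    have hnil : r ∈ sInf ((⊥ : Ideal R).minimalPrimes) := Ideal.mem_sInf.2 fun {p} hp =>
      Ideal.Quotient.eq_zero_iff_mem.1 ((IsFractionRing.injective (R ⧸ p) (F ⟨p, hp⟩))
        ((congrFun h ⟨p, hp⟩).trans (map_zero _).symm))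
    rw [Ideal.sInf_minimalPrimes, ← Ideal.zero_eq_bot] at hnil
    exact (mem_nilradical.1 hnil).eq_zero
  let ι : R ⊗[B] B' →ₐ[R] R ⊗[B] K := Algebra.TensorProduct.map (AlgHom.id R R) B'.val
  have hι : Function.Injective ι :=
    Module.Flat.lTensor_preserves_injective_linearMap B'.val.toLinearMap Subtype.val_injective
  haveI : Algebra.IsIntegral R (R ⊗[B] B') := inferInstance
  haveI : Module.Finite R (R ⊗[B] B') := finite_of_injective_pi hR (Ψ.comp ι.toRingHom)
    (fun r p => by
      show Ψ (ι (algebraMap R _ r)) p = _
      rw [AlgHom.commutes, IsLocalization.lift_eq]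
      rfl) (hΨinj.comp hι)
  exact Module.Finite.of_finite_tensorProduct_of_faithfullyFlat R

attribute [local instance] Algebra.TensorProduct.rightAlgebra in
/-- A finite type domain over an analytically unramified local ring which is étale after inverting
one nonzero element has finite normalization. -/
theorem finite_integralClosure_of_etale_away (A B : Type u) [CommRing A] [IsLocalRing A]
    [IsNoetherianRing A] [IsReduced (EGA4.Cpl A)] [CommRing B] [IsDomain B] [Algebra A B]
    [Algebra.FiniteType A B] (b : B) (hb : b ≠ 0) [Algebra.Etale A (Localization.Away b)] :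
    Module.Finite B (integralClosure B (FractionRing B)) := by
  let P := EGA4.Cpl A
  haveI := FlatLoc6.isNoetherianRing_cpl A
  haveI := FlatLoc6.faithfullyFlat_cpl A
  haveI := FlatLoc6.isLocalRing_cpl A
  haveI : IsAdicComplete (IsLocalRing.maximalIdeal P) P := by
    rw [← CAlgOdd.NagataFT.cpl_map_max]
    exact (IsAdicComplete.map_algebraMap_iff _ _).mpr
      (AdicCompletion.isAdicComplete (IsNoetherian.noetherian (IsLocalRing.maximalIdeal A)))
  let R := B ⊗[A] P
  haveI : Algebra.FiniteType P (P ⊗[A] B) := inferInstance
  have hR : CAlg.IsNagata R := CAlgOdd.NagataFT.isNagata_of_ringEquiv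
    (Algebra.TensorProduct.comm A P B).toRingEquiv
    (Groth.Agent.S0566.result P (Groth.Agent.S0568.result P) (P ⊗[A] B))
  haveI : IsNoetherianRing R := hR.1
  haveI : Module.FaithfullyFlat B R := inferInstance
  have hbinj : Function.Injective (algebraMap B (Localization.Away b)) :=
    IsLocalization.injective _ (powers_le_nonZeroDivisors_of_noZeroDivisors hb)
  haveI : IsReduced R := by
    haveI : IsReduced (P ⊗[A] Localization.Away b) := Groth.Agent.S9407.result P _
    haveI : IsReduced (Localization.Away b ⊗[A] P) :=
      isReduced_of_injective (Algebra.TensorProduct.comm A (Localization.Away b) P).toRingHom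
        (Algebra.TensorProduct.comm A (Localization.Away b) P).injective
    let g : R →ₐ[A] Localization.Away b ⊗[A] P :=
      Algebra.TensorProduct.map (IsScalarTower.toAlgHom A B _) (AlgHom.id A P)
    exact isReduced_of_injective g.toRingHom
      (Module.Flat.rTensor_preserves_injective_linearMap
        (IsScalarTower.toAlgHom A B (Localization.Away b)).toLinearMap hbinj)
  exact finite_integralClosure_of_faithfullyFlat hR

end Groth.Agent.ResolveLib
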