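import Groth.Agent.IntBC.Normal
import Groth.Agent.FlatLoc6.GeomProp
import Groth.Agent.FlatLoc6.GeomRed
import Groth.Agent.EssEtFrac5.Basic
import Mathlib.RingTheory.Flat.FaithfullyFlat.Algebra
import Mathlib.RingTheory.Localization.BaseChange
import Mathlib.RingTheory.SimpleModule.InjectiveProjective
import Mathlib.RingTheory.Polynomial.ScaleRoots

/-!
# Normality descends along a flat base change of a finite extension of a normal ring

If `B` is a Noetherian normal ring, `B ⊆ C` is finite and `R` is a flat Noetherian `B`-algebra with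
`R ⊗ C` normal, then `R` is normal.
-/

set_option autoImplicit false
set_option linter.style.haveILetI false

universe u

open Polynomial TensorProduct nonZeroDivisors

namespace Groth.Agent.ResolveLib

open Groth.Agent.IntBC

/-- In a normal ring, `a/m` satisfying a monic equation gives `m * a ∈ (m * m)`. -/
theorem exists_mul_eq_of_normal {S : Type u} [CommRing S] (h : EGA4.IsNormalRing S) (a m : S) (d : ℕ)
    (c : ℕ → S) (hrel : a ^ d + ∑ i ∈ Finset.range d, c i * a ^ i * m ^ (d - i) = 0) :
    ∃ r, m * a = m * m * r := by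
  by_contra hcon
  obtain ⟨Q, hQ, hle⟩ := Ideal.exists_le_maximal ((Ideal.span {m * m}).colon {m * a}) (by
    rw [Ideal.ne_top_iff_one, Submodule.mem_colon_singleton, one_smul, Ideal.mem_span_singleton]
    exact fun ⟨r, hr⟩ => hcon ⟨r, hr⟩)
  have key : ∃ v ∉ Q, m * m ∣ v * (m * a) := by
    by_cases hv : ∃ v ∉ Q, v * m = 0
    · obtain ⟨v, hv, hvm⟩ := hv
      exact ⟨v, hv, by rw [← mul_assoc, hvm, zero_mul]; exact dvd_zero _⟩
    · push Not at hv
      obtain ⟨v, hvQ, r, hr⟩ := fracClosed_of_normal h Q hQ.isPrime a m d c 1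
        ((Ideal.ne_top_iff_one Q).1 hQ.ne_top) (by rw [one_mul]; exact hrel) hv
      exact ⟨v, hvQ, r, by rw [mul_left_comm, hr]; ring⟩
  obtain ⟨v, hv, hdvd⟩ := key
  exact hv (hle (Submodule.mem_colon_singleton.2 (by
    rw [smul_eq_mul, Ideal.mem_span_singleton]; exact hdvd)))

/-- A Noetherian ring which separates zero products by idempotents and is integrally closed in its
total ring of fractions is normal. -/
theorem isNormalRing_of_noetherian {R : Type u} [CommRing R] [IsNoetherianRing R] (hid : IdemSep R)
    (hcl : ∀ a c : R, c ∈ R⁰ → ∀ (d : ℕ) (m : ℕ → R),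
      a ^ d + ∑ i ∈ Finset.range d, m i * a ^ i * c ^ (d - i) = 0 → c ∣ a) :
    EGA4.IsNormalRing R := by
  refine isNormalRing_of hid ?_
  intro Q hQ a c d m s hs hrel hc
  obtain ⟨e, he, hec, heann⟩ : ∃ e, IsIdempotentElem e ∧ e * c = 0 ∧
      ∀ x, x * c = 0 → e * x = x := by
    classical
    obtain ⟨T, hT⟩ := IsNoetherian.noetherian (Submodule.span R {c}).annihilator
    have hTc : ∀ x ∈ T, x * c = 0 := fun x hx => by
      have : x ∈ (Submodule.span R {c}).annihilator := hT ▸ Submodule.subset_span hx
      rwa [Submodule.mem_annihilator_span_singleton] at this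
    have hann : ∀ {x : R}, x ∈ Submodule.span R (T : Set R) → x * c = 0 := fun {x} hx => by
      have h : x ∈ (Submodule.span R {c}).annihilator := hT ▸ hx
      rwa [Submodule.mem_annihilator_span_singleton] at h
    suffices ∀ T' : Finset R, (∀ x ∈ T', x * c = 0) →
        ∃ e, IsIdempotentElem e ∧ e * c = 0 ∧ ∀ x ∈ T', e * x = x by
      obtain ⟨e, he, hec, hx⟩ := this T hTc
      refine ⟨e, he, hec, fun x hxc => ?_⟩
      have hmem : x ∈ Submodule.span R (T : Set R) := by
        rw [hT]
        exact (Submodule.mem_annihilator_span_singleton c x).2 hxc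
      clear hxc
      induction hmem using Submodule.span_induction with
      | mem y hy => exact hx y hy
      | zero => exact mul_zero e
      | add y z hy' hz' hy hz =>
        rw [mul_add, hy, hz]
      | smul r y hy' hy => rw [smul_eq_mul, mul_left_comm, hy]
    intro T'
    induction T' using Finset.induction_on with
    | empty => exact fun _ => ⟨0, IsIdempotentElem.zero, zero_mul c, by simp⟩
    | @insert b T' hb ih =>
      intro hall
      obtain ⟨e, he, hec, hx⟩ := ih fun x hx => hall x (Finset.mem_insert_of_mem hx)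
      obtain ⟨f, hf, hfc, hfb⟩ := hid c b (by rw [mul_comm]; exact hall b (Finset.mem_insert_self _ _))
      refine ⟨e + f - e * f, ?_, by rw [sub_mul, add_mul, mul_assoc, hfc, hec]; simp, fun x hx' => ?_⟩
      · show _ * _ = _
        linear_combination (1 - f) ^ 2 * he.eq + (1 - e) * hf.eq
      · rcases Finset.mem_insert.1 hx' with rfl | hx'
        · linear_combination (1 - e) * hfb
        · linear_combination (1 - f) * hx x hx'
  have heQ : e ∈ Q := by
    by_contra h
    exact hc e h hec
  have h1 : 1 - e ∉ Q := fun h => hQ.ne_top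
    ((Ideal.eq_top_iff_one Q).2 (by simpa using add_mem h heQ))
  have hnzd : c + e ∈ R⁰ := mem_nonZeroDivisors_iff_right.2 fun x hx => by
    have hex : e * x = 0 := by linear_combination e * hx - x * hec - x * he.eq
    have hxc : x * c = 0 := by linear_combination hx - hex
    rw [← heann x hxc, hex]
  have hd : 0 < d := Nat.pos_of_ne_zero fun h => by
    subst h
    refine hs ?_
    have : s = 0 := by simpa using hrel
    rw [this]; exact Q.zero_mem
  have he1 : IsIdempotentElem (1 - e) := he.one_sub
  have hpow : ∀ k, 0 < k → (1 - e) ^ k = 1 - e := fun k hk => by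
    obtain ⟨j, rfl⟩ := Nat.exists_eq_succ_of_ne_zero hk.ne'
    exact he1.pow_succ_eq j
  have hcpow : ∀ k, (1 - e) * (c + e) ^ k = (1 - e) * c ^ k := fun k => by
    induction k with
    | zero => simp
    | succ k ih => linear_combination (c + e) * ih + c ^ k * (-he.eq)
  have hrel' : ((1 - e) * s * a) ^ d +
      ∑ i ∈ Finset.range d, ((1 - e) * m i * s ^ (d - 1 - i)) * ((1 - e) * s * a) ^ i * (c + e) ^ (d - i) = 0 := by
    have h := congrArg (fun t => (1 - e) * s ^ (d - 1) * t) hrel
    simp only [mul_zero, mul_add, Finset.mul_sum] at h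
    rw [← h]
    congr 1
    · have hsd : s ^ d = s ^ (d - 1) * s := by rw [← pow_succ, Nat.sub_add_cancel hd]
      rw [mul_pow, mul_pow, hpow d hd, hsd]; ring
    · refine Finset.sum_congr rfl fun i hi => ?_
      have hi' := Finset.mem_range.1 hi
      have hk : d - 1 - i + i = d - 1 := by omega
      calc (1 - e) * m i * s ^ (d - 1 - i) * ((1 - e) * s * a) ^ i * (c + e) ^ (d - i)
          = (1 - e) ^ (i + 1) * m i * (s ^ (d - 1 - i) * s ^ i) * a ^ i * (c + e) ^ (d - i) := by
            rw [mul_pow, mul_pow]; ring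
        _ = m i * s ^ (d - 1) * a ^ i * ((1 - e) * (c + e) ^ (d - i)) := by
          rw [hpow _ i.succ_pos, ← pow_add, hk]; ring
        _ = _ := by rw [hcpow]; ring
  obtain ⟨r, hr⟩ := hcl _ _ hnzd d _ hrel'
  exact ⟨(1 - e) * s, fun h => (hQ.mem_or_mem h).elim h1 hs, (1 - e) * r,
    by linear_combination (1 - e) * hr + s * a * (-he.eq) + r * (-he.eq)⟩

section

variable {B C R : Type u} [CommRing B] [CommRing C] [CommRing R] [Algebra B C] [Algebra B R]

/-- In a normal ring `B ⊆ C` integral, `nC ∩ B = nB` for non-zero-divisors `n`. -/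
theorem dvd_of_algebraMap_eq [Algebra.IsIntegral B C] (hinj : Function.Injective (algebraMap B C))
    (hB : EGA4.IsNormalRing B) {n b : B} (hn : n ∈ B⁰) {c : C}
    (h : algebraMap B C b = algebraMap B C n * c) : n ∣ b := by
  obtain ⟨p, hp, hpc⟩ := Algebra.IsIntegral.isIntegral (R := B) c
  have h2 : aeval b (p.scaleRoots n) = 0 := by
    refine hinj ?_
    rw [map_zero, ← aeval_algebraMap_apply, h]
    exact scaleRoots_aeval_eq_zero hpc
  have hm := (monic_scaleRoots_iff n).2 hp
  rw [coe_aeval_eq_eval, eval_eq_sum_range, natDegree_scaleRoots, Finset.sum_range_succ] at h2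
  have hlead : (p.scaleRoots n).coeff p.natDegree = 1 := by
    rw [← natDegree_scaleRoots p n]; exact hm
  rw [hlead, one_mul, add_comm] at h2
  obtain ⟨r, hr⟩ := exists_mul_eq_of_normal hB b n p.natDegree (fun i => p.coeff i) (by
    rw [← h2]
    congr 1
    refine Finset.sum_congr rfl fun i _ => ?_
    rw [coeff_scaleRoots]; ring)
  exact ⟨r, by
    have h3 : (b - n * r) * n = 0 := by linear_combination hr
    exact sub_eq_zero.1 (mem_nonZeroDivisors_iff_right.1 hn _ h3)⟩

/-- `nS ∩ R = nR` for `S = R ⊗ C` when `R` is flat. -/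
theorem dvd_of_tmul_eq [Module.Flat B R] [Algebra.IsIntegral B C]
    (hinj : Function.Injective (algebraMap B C)) (hB : EGA4.IsNormalRing B) {n : B} (hn : n ∈ B⁰)
    {r : R} {s : R ⊗[B] C} (h : r ⊗ₜ[B] (1 : C) = n • s) : algebraMap B R n ∣ r := by
  let I : Ideal B := Ideal.span {n}
  have hle : I ≤ (I • (⊤ : Submodule B C)).comap (Algebra.linearMap B C) := fun b hb => by
    rw [Submodule.mem_comap, Algebra.linearMap_apply, Algebra.algebraMap_eq_smul_one]
    exact Submodule.smul_mem_smul hb Submodule.mem_top
  let g : (B ⧸ I) →ₗ[B] C ⧸ (I • (⊤ : Submodule B C)) := Submodule.mapQ _ _ (Algebra.linearMap B C) hle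
  have hg : Function.Injective g := by
    rw [← LinearMap.ker_eq_bot, Submodule.ker_mapQ, eq_bot_iff, Submodule.map_le_iff_le_comap]
    intro b hb
    rw [Submodule.mem_comap, Submodule.ideal_span_singleton_smul] at hb
    obtain ⟨c, -, hc⟩ := (Submodule.mem_smul_pointwise_iff_exists _ _ _).1 hb
    have := dvd_of_algebraMap_eq hinj hB hn (c := c) (by rw [← Algebra.smul_def]; exact hc.symm)
    rw [Submodule.mem_comap, Submodule.mem_bot, Submodule.mkQ_apply, Submodule.Quotient.mk_eq_zero]
    exact Ideal.mem_span_singleton.2 this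
  have h0 : r ⊗ₜ[B] (Submodule.Quotient.mk (1 : B) : B ⧸ I) = 0 := by
    refine Module.Flat.lTensor_preserves_injective_linearMap g hg ?_
    rw [map_zero, LinearMap.lTensor_tmul]
    have h1 := congrArg (LinearMap.lTensor R (I • (⊤ : Submodule B C)).mkQ) h
    rw [LinearMap.lTensor_tmul, map_smul] at h1
    have h2 : n • LinearMap.lTensor R (I • (⊤ : Submodule B C)).mkQ s = 0 := by
      rw [← LinearMap.smul_apply, ← LinearMap.lTensor_smul]
      have : n • (I • (⊤ : Submodule B C)).mkQ = 0 := LinearMap.ext fun c => by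
        rw [LinearMap.smul_apply, LinearMap.zero_apply, ← map_smul, Submodule.mkQ_apply,
          Submodule.Quotient.mk_eq_zero]
        exact Submodule.smul_mem_smul (Ideal.mem_span_singleton_self n) Submodule.mem_top
      rw [this, LinearMap.lTensor_zero, LinearMap.zero_apply]
    rw [h2] at h1
    rw [← h1]
    congr 1
    exact (Submodule.mapQ_apply _ _ _ _).trans (congrArg _ (map_one (algebraMap B C)))
  have h1 := congrArg (TensorProduct.tensorQuotEquivQuotSMul R I) h0
  rw [map_zero] at h1
  have h2 : r ∈ I • (⊤ : Submodule B R) := by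
    rw [← Submodule.Quotient.mk_eq_zero]
    have h3 : (Submodule.Quotient.mk (1 : B) : B ⧸ I) = Ideal.Quotient.mk I 1 := rfl
    rw [h3, TensorProduct.tensorQuotEquivQuotSMul_tmul_mk, one_smul] at h1
    exact h1
  rw [Submodule.ideal_span_singleton_smul] at h2
  obtain ⟨r', -, hr'⟩ := (Submodule.mem_smul_pointwise_iff_exists _ _ _).1 h2
  exact ⟨r', by rw [← Algebra.smul_def]; exact hr'.symm⟩

theorem faithfullyFlat_fractionRing_tensor [IsNoetherianRing B] [Module.Finite B C]
    (hinj : Function.Injective (algebraMap B C)) [IsReduced B] :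
    Module.FaithfullyFlat (FractionRing B) (FractionRing B ⊗[B] C) := by
  let K := FractionRing B
  haveI : IsArtinianRing K :=
    EssEtFrac5.isArtinianRing_fractionRing (minimalPrimes.finite_of_isNoetherianRing B)
  haveI : IsReduced K := isReduced_localizationPreserves B⁰ _ inferInstance
  haveI : IsSemisimpleRing K := IsArtinianRing.isSemisimpleRing_of_isReduced K
  haveI : Module.Projective K (K ⊗[B] C) := Module.projective_of_isSemisimpleRing K _
  have hK : Function.Injective (algebraMap K (K ⊗[B] C)) := by
    haveI : Module.Flat B K := IsLocalization.flat K B⁰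
    have h := Module.Flat.lTensor_preserves_injective_linearMap (M := K) (Algebra.linearMap B C) hinj
    intro x y hxy
    refine (TensorProduct.rid B K).symm.injective (h ?_)
    rw [TensorProduct.rid_symm_apply, TensorProduct.rid_symm_apply, LinearMap.lTensor_tmul,
      LinearMap.lTensor_tmul, Algebra.linearMap_apply, map_one]
    exact hxy
  refine Module.FaithfullyFlat.of_comap_surjective fun P => ?_
  obtain ⟨Q, -, hQ, hQP⟩ := Ideal.exists_ideal_over_prime_of_isIntegral P.asIdeal
    (⊥ : Ideal (K ⊗[B] C)) (by
      intro x hx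
      rw [Ideal.mem_comap, Ideal.mem_bot] at hx
      rw [hK (hx.trans (map_zero _).symm)]
      exact P.asIdeal.zero_mem)
  exact ⟨⟨Q, hQ⟩, PrimeSpectrum.ext hQP⟩

attribute [local instance] Algebra.TensorProduct.rightAlgebra in
/-- A flat Noetherian algebra over a normal ring is normal if it becomes so after a finite
extension. -/
theorem isNormalRing_of_tensor [IsNoetherianRing B] [IsNoetherianRing R] [Module.Flat B R]
    [Module.Finite B C] (hinj : Function.Injective (algebraMap B C)) (hB : EGA4.IsNormalRing B)
    (hS : EGA4.IsNormalRing (R ⊗[B] C)) : EGA4.IsNormalRing R := by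
  haveI : IsReduced B := FlatLoc6.isReduced_of_isNormalRing B hB
  have hN : ∀ {n : B}, n ∈ B⁰ → algebraMap B R n ∈ R⁰ := fun {n} hn =>
    mem_nonZeroDivisors_iff_right.2 fun x hx => by
      refine (Module.Flat.isSMulRegular_of_nonZeroDivisors (M := R) hn) ?_
      show n • x = n • 0
      rw [smul_zero, Algebra.smul_def, mul_comm]; exact hx
  let N := Algebra.algebraMapSubmonoid R B⁰
  let R' := Localization N
  have hNle : N ≤ R⁰ := by
    rintro _ ⟨n, hn, rfl⟩; exact hN hn
  haveI : IsNoetherianRing R' := IsLocalization.isNoetherianRing N R' inferInstance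
  let K := FractionRing B
  letI : Algebra K R' := localizationAlgebra B⁰ R
  haveI : IsScalarTower B K R' := IsScalarTower.of_algebraMap_eq fun b => by
    rw [IsScalarTower.algebraMap_apply B R R']
    exact (IsLocalization.map_eq _ b).symm
  haveI := faithfullyFlat_fractionRing_tensor (B := B) (C := C) hinj
  haveI : Module.FaithfullyFlat R' (R' ⊗[K] (K ⊗[B] C)) := inferInstance
  haveI : Module.FaithfullyFlat R' (R' ⊗[R] (R ⊗[B] C)) :=
    Module.FaithfullyFlat.of_linearEquiv _ _
      ((TensorProduct.AlgebraTensorModule.cancelBaseChange B R R' R' C).trans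
        (TensorProduct.AlgebraTensorModule.cancelBaseChange B K R' R' C).symm)
  haveI : IsNoetherianRing (R' ⊗[R] (R ⊗[B] C)) := IsNoetherianRing.of_finite R' _
  have hR' : EGA4.IsNormalRing R' := FlatLoc6.isNormalRing_of_faithfullyFlat R' (R' ⊗[R] (R ⊗[B] C))
    (FlatLoc6.isNormalRing_of_isLocalization (Algebra.algebraMapSubmonoid (R ⊗[B] C) N) _ hS)
  have hinjR' : Function.Injective (algebraMap R R') := IsLocalization.injective _ hNle
  -- the key descent step: a numerator satisfying a monic equation is divisible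
  have hdiv : ∀ (n : B) (r : R) (d : ℕ) (m : ℕ → R), n ∈ B⁰ →
      r ^ d + ∑ i ∈ Finset.range d, m i * r ^ i * algebraMap B R n ^ (d - i) = 0 →
      algebraMap B R n ∣ r := by
    intro n r d m hn hrel
    let ι : R →+* R ⊗[B] C := algebraMap R (R ⊗[B] C)
    obtain ⟨s, hs⟩ := exists_mul_eq_of_normal hS (ι r) (ι (algebraMap B R n)) d (fun i => ι (m i)) (by
      have := congrArg ι hrel
      simpa [map_add, map_sum, map_mul, map_pow] using this)
    obtain ⟨r', hr'⟩ := dvd_of_tmul_eq hinj hB (n := n * n) (mul_mem hn hn)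
      (r := algebraMap B R n * r) (s := s) (by
        rw [Algebra.smul_def, IsScalarTower.algebraMap_apply B R (R ⊗[B] C), map_mul, map_mul, ← hs,
          ← map_mul]
        rfl)
    refine ⟨r', ?_⟩
    have h3 : (r - algebraMap B R n * r') * algebraMap B R n = 0 := by
      rw [map_mul] at hr'; linear_combination hr'
    exact sub_eq_zero.1 (mem_nonZeroDivisors_iff_right.1 (hN hn) _ h3)
  have hmk : ∀ x : R', ∃ (r : R) (n : B), n ∈ B⁰ ∧
      x * algebraMap R R' (algebraMap B R n) = algebraMap R R' r := by
    intro x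
    obtain ⟨⟨r, ⟨_, n, hn, rfl⟩⟩, h⟩ := IsLocalization.surj N x
    exact ⟨r, n, hn, h⟩
  refine isNormalRing_of_noetherian (fun a b hab => ?_) fun a c hc d m hrel => ?_
  · obtain ⟨e', he', hea, heb⟩ := idemSep_of_noetherian hR' (algebraMap R R' a) (algebraMap R R' b)
      (by rw [← map_mul, hab, map_zero])
    obtain ⟨r, n, hn, hx⟩ := hmk e'
    have hrr : r * r = algebraMap B R n * r := hinjR' (by
      rw [map_mul, map_mul, ← hx]
      linear_combination (algebraMap R R' (algebraMap B R n)) ^ 2 * he'.eq)
    obtain ⟨e, rfl⟩ := hdiv n r 2 (fun i => if i = 1 then -1 else 0) hn (by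
      simp [Finset.sum_range_succ]
      linear_combination hrr)
    have hnz := mem_nonZeroDivisors_iff_right.1 (hN hn)
    refine ⟨e, sub_eq_zero.1 (hnz _ (hnz _ ?_)), hnz _ ?_, sub_eq_zero.1 (hnz _ ?_)⟩
    · linear_combination hrr
    · refine hinjR' ?_
      rw [map_zero]
      rw [map_mul] at hx
      rw [map_mul, map_mul]
      linear_combination (algebraMap R R' (algebraMap B R n)) * hea - (algebraMap R R' a) * hx
    · refine hinjR' ?_
      rw [map_zero]
      rw [map_mul] at hx
      rw [map_mul, map_sub, map_mul]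
      linear_combination (algebraMap R R' (algebraMap B R n)) * heb - (algebraMap R R' b) * hx
  · let α := algebraMap R R'
    obtain ⟨x, hx⟩ := exists_mul_eq_of_normal hR' (α a) (α c) d (fun i => α (m i)) (by
      have := congrArg α hrel
      simpa [map_add, map_sum, map_mul, map_pow] using this)
    obtain ⟨r, n, hn, hxr⟩ := hmk x
    have hc' := mem_nonZeroDivisors_iff_right.1 hc
    have hna : algebraMap B R n * a = c * r := sub_eq_zero.1 (hc' _ (hinjR' (by
      rw [map_zero, map_mul, map_sub, map_mul, map_mul]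
      linear_combination (α (algebraMap B R n)) * hx + (α c) ^ 2 * hxr)))
    have hcd : c ^ d ∈ R⁰ := pow_mem hc d
    obtain ⟨r', rfl⟩ := hdiv n r d m hn (mem_nonZeroDivisors_iff_right.1 hcd _ (by
      have h := congrArg (fun t => algebraMap B R n ^ d * t) hrel
      simp only [mul_zero, mul_add, Finset.mul_sum] at h
      rw [← h, add_mul, Finset.sum_mul, ← mul_pow r c, mul_comm r c, ← hna, mul_pow]
      congr 1
      refine Finset.sum_congr rfl fun i hi => ?_
      have hi' := Finset.mem_range.1 hi
      calc m i * r ^ i * algebraMap B R n ^ (d - i) * c ^ d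
          = m i * (c * r) ^ i * algebraMap B R n ^ (d - i) * c ^ (d - i) := by
            rw [mul_pow c r]
            conv_lhs => rw [show c ^ d = c ^ i * c ^ (d - i) by rw [← pow_add, Nat.add_sub_cancel' hi'.le]]
            ring
        _ = _ := by
            rw [← hna, mul_pow]
            conv_rhs => rw [show algebraMap B R n ^ d = algebraMap B R n ^ i * algebraMap B R n ^ (d - i) by
              rw [← pow_add, Nat.add_sub_cancel' hi'.le]]
            ring))
    exact ⟨r', sub_eq_zero.1 (mem_nonZeroDivisors_iff_right.1 (hN hn) _ (by linear_combination hna))⟩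

end

end Groth.Agent.ResolveLib
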