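import Groth.Agent.Synt29.CIBaseChangeLocal
import Mathlib.RingTheory.RegularLocalRing.Defs
import Mathlib.RingTheory.Flat.Basic

/-!
# Regularity along flat maps inducing isomorphisms on completions
-/

set_option autoImplicit false
set_option linter.style.haveILetI false

universe u

open IsLocalRing

namespace Groth.Agent.ResolveLib

variable {R S : Type u} [CommRing R] [CommRing S] [IsLocalRing R] [IsLocalRing S]
  [IsNoetherianRing R] [IsNoetherianRing S] [Algebra R S] [IsLocalHom (algebraMap R S)]

theorem map_maximalIdeal_eq_of_surjective_sq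
    (hs : ∀ s : S, ∃ r : R, s - algebraMap R S r ∈ maximalIdeal S ^ 2) :
    (maximalIdeal R).map (algebraMap R S) = maximalIdeal S := by
  refine le_antisymm (((local_hom_TFAE (algebraMap R S)).out 0 2).mp ‹_›) ?_
  refine Submodule.le_of_le_smul_of_le_jacobson_bot (I := maximalIdeal S)
    (maximalIdeal S).fg_of_isNoetherianRing (maximalIdeal_le_jacobson ⊥) fun s hs' => ?_
  obtain ⟨r, hr⟩ := hs s
  have hsq : maximalIdeal S ^ 2 ≤ maximalIdeal S := Ideal.pow_le_self two_ne_zero
  have hrm : r ∈ maximalIdeal R := by
    rw [mem_maximalIdeal, mem_nonunits_iff]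
    intro hu
    refine (maximalIdeal.isMaximal S).ne_top (Ideal.eq_top_of_isUnit_mem _ ?_ (hu.map (algebraMap R S)))
    simpa using (maximalIdeal S).sub_mem hs' (hsq hr)
  have h2 : s - algebraMap R S r ∈ maximalIdeal S • maximalIdeal S := by
    rwa [smul_eq_mul, ← pow_two]
  simpa using Submodule.add_mem_sup (Ideal.mem_map_of_mem (algebraMap R S) hrm) h2

theorem isRegularLocalRing_iff_of_flat [Module.Flat R S]
    (hs : ∀ s : S, ∃ r : R, s - algebraMap R S r ∈ maximalIdeal S ^ 2)
    (hi : ∀ r : R, algebraMap R S r ∈ maximalIdeal S ^ 2 → r ∈ maximalIdeal R ^ 2) :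
    IsRegularLocalRing R ↔ IsRegularLocalRing S := by
  have hm := map_maximalIdeal_eq_of_surjective_sq hs
  have hdim : ringKrullDim S = ringKrullDim R := by
    rw [Synt29.ringKrullDim_eq_add_of_hasGoingDown (A := R) (A' := S), hm,
      ringKrullDim_eq_zero_of_isField ((Ideal.Quotient.maximal_ideal_iff_isField_quotient _).mp
        (maximalIdeal.isMaximal S)), add_zero]
  rw [isRegularLocalRing_iff, isRegularLocalRing_iff, hdim]
  suffices (maximalIdeal R).spanFinrank = (maximalIdeal S).spanFinrank by rw [this]
  refine le_antisymm ?_ ?_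
  · have fg := (maximalIdeal S).fg_of_isNoetherianRing
    have fin := Submodule.FG.finite_generators fg
    choose ρ hρ using hs
    set G := (maximalIdeal S).generators
    have hG : G ⊆ maximalIdeal S := fun g hg => (maximalIdeal S).span_generators.le (Submodule.subset_span hg)
    have hsq : maximalIdeal S ^ 2 ≤ maximalIdeal S := Ideal.pow_le_self two_ne_zero
    let N : Ideal R := Ideal.span (ρ '' G)
    have hN : N ≤ maximalIdeal R := by
      rw [Ideal.span_le]
      rintro _ ⟨g, hg, rfl⟩
      rw [SetLike.mem_coe, ← maximalIdeal_comap (algebraMap R S), Ideal.mem_comap]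
      simpa using (maximalIdeal S).sub_mem (hG hg) (hsq (hρ g))
    have hNS : maximalIdeal S ≤ N.map (algebraMap R S) := by
      refine Submodule.le_of_le_smul_of_le_jacobson_bot (I := maximalIdeal S)
        (maximalIdeal S).fg_of_isNoetherianRing (maximalIdeal_le_jacobson ⊥) ?_
      conv_lhs => rw [← (maximalIdeal S).span_generators]
      refine Submodule.span_le.mpr fun g hg => ?_
      have h1 : g - algebraMap R S (ρ g) ∈ maximalIdeal S • maximalIdeal S := by
        rw [smul_eq_mul, ← pow_two]; exact hρ g
      have h2 : algebraMap R S (ρ g) ∈ N.map (algebraMap R S) :=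
        Ideal.mem_map_of_mem _ (Ideal.subset_span ⟨g, hg, rfl⟩)
      simpa using Submodule.add_mem_sup h2 h1
    have happ : ∀ y ∈ N.map (algebraMap R S), ∃ z ∈ N, y - algebraMap R S z ∈ maximalIdeal S ^ 2 := by
      intro y hy
      induction hy using Submodule.span_induction with
      | mem y hy =>
        obtain ⟨z, hz, rfl⟩ := hy
        exact ⟨z, hz, by simp⟩
      | zero => exact ⟨0, N.zero_mem, by simp⟩
      | add x y _ _ hx hy =>
        obtain ⟨a, ha, ha'⟩ := hx
        obtain ⟨b, hb, hb'⟩ := hy
        refine ⟨a + b, N.add_mem ha hb, ?_⟩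
        rw [map_add, add_sub_add_comm]
        exact (maximalIdeal S ^ 2).add_mem ha' hb'
      | smul c x _ hx =>
        obtain ⟨a, ha, ha'⟩ := hx
        refine ⟨ρ c * a, N.mul_mem_left _ ha, ?_⟩
        rw [smul_eq_mul, map_mul, show c * x - algebraMap R S (ρ c) * algebraMap R S a =
          (c - algebraMap R S (ρ c)) * x + algebraMap R S (ρ c) * (x - algebraMap R S a) by ring]
        exact (maximalIdeal S ^ 2).add_mem (Ideal.mul_mem_right _ _ (hρ c))
          (Ideal.mul_mem_left _ _ ha')
    have hNR : maximalIdeal R ≤ N := by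
      refine Submodule.le_of_le_smul_of_le_jacobson_bot (I := maximalIdeal R)
        (maximalIdeal R).fg_of_isNoetherianRing (maximalIdeal_le_jacobson ⊥) fun r hr => ?_
      obtain ⟨z, hz, hz'⟩ := happ (algebraMap R S r) (hNS (by rw [← hm]; exact Ideal.mem_map_of_mem _ hr))
      rw [← map_sub] at hz'
      have h1 : r - z ∈ maximalIdeal R • maximalIdeal R := by
        rw [smul_eq_mul, ← pow_two]; exact hi _ hz'
      simpa using Submodule.add_mem_sup hz h1
    exact le_of_eq_of_le (congrArg Submodule.spanFinrank (le_antisymm hNR hN))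
      ((Submodule.spanFinrank_span_le_ncard_of_finite (fin.image ρ)).trans
        ((Set.ncard_image_le fin).trans (Submodule.FG.generators_ncard fg).le))
  · rw [← hm]
    have fg := (maximalIdeal R).fg_of_isNoetherianRing
    have fin := Submodule.FG.finite_generators fg
    conv_lhs => rw [← (maximalIdeal R).span_generators,
      show Submodule.span _ _ = Ideal.span _ from rfl, Ideal.map_span]
    exact (Submodule.spanFinrank_span_le_ncard_of_finite (fin.image _)).trans
      ((Set.ncard_image_le fin).trans (Submodule.FG.generators_ncard fg).le)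

end Groth.Agent.ResolveLib
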