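import Groth.Agent.CplFib6.QuotReg
import Mathlib.AlgebraicGeometry.AffineScheme
import Mathlib.AlgebraicGeometry.Morphisms.Flat
import Mathlib.RingTheory.Localization.LocalizationLocalization
import Mathlib.AlgebraicGeometry.Stalk

/-!
# Regularity of local rings at generizations
-/

set_option autoImplicit false
set_option linter.style.haveILetI false

universe u

open CategoryTheory AlgebraicGeometry

namespace Groth.Agent.ResolveLib

theorem isRegularLocalRing_of_specializes {X : Scheme.{u}} {z x : X} (h : z ⤳ x)
    [IsRegularLocalRing (X.presheaf.stalk x)] : IsRegularLocalRing (X.presheaf.stalk z) := by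
  obtain ⟨U, hU, hxU, -⟩ := exists_isAffineOpen_mem_and_subset (x := x) (U := ⊤) trivial
  have hzU : z ∈ U := h.mem_open U.isOpen hxU
  let q := hU.primeIdealOf ⟨x, hxU⟩
  let p := hU.primeIdealOf ⟨z, hzU⟩
  letI := TopCat.Presheaf.algebra_section_stalk X.presheaf (⟨x, hxU⟩ : U)
  letI := TopCat.Presheaf.algebra_section_stalk X.presheaf (⟨z, hzU⟩ : U)
  haveI : IsLocalization.AtPrime (X.presheaf.stalk x) q.asIdeal := hU.isLocalization_stalk ⟨x, hxU⟩
  haveI : IsLocalization.AtPrime (X.presheaf.stalk z) p.asIdeal := hU.isLocalization_stalk ⟨z, hzU⟩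
  have hpq : p.asIdeal ≤ q.asIdeal := by
    refine (PrimeSpectrum.le_iff_specializes p q).mpr ?_
    refine hU.fromSpec.isOpenEmbedding.isInducing.specializes_iff.mp ?_
    rw [hU.fromSpec_primeIdealOf, hU.fromSpec_primeIdealOf]
    exact h
  let R := X.presheaf.stalk x
  let P : Ideal R := p.asIdeal.map (algebraMap Γ(X, U) R)
  have hdisj : Disjoint (q.asIdeal.primeCompl : Set Γ(X, U)) p.asIdeal :=
    Set.disjoint_left.mpr fun a ha ha' => ha (hpq ha')
  haveI : P.IsPrime := IsLocalization.isPrime_of_isPrime_disjoint q.asIdeal.primeCompl R _ p.2 hdisj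
  have hc : P.comap (algebraMap Γ(X, U) R) = p.asIdeal :=
    IsLocalization.under_map_of_isPrime_disjoint q.asIdeal.primeCompl R p.2 hdisj
  haveI : IsRegularRing R := CplFib6.isRegularRing_of_local R
  haveI : IsRegularLocalRing (Localization.AtPrime P) := IsRegularRing.isRegularLocalRing_localization P
  haveI : IsLocalization.AtPrime (Localization.AtPrime P) p.asIdeal := by
    have := IsLocalization.isLocalization_isLocalization_atPrime_isLocalization q.asIdeal.primeCompl
      (Localization.AtPrime P) P
    convert this using 2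
    exact hc.symm
  exact IsRegularLocalRing.of_ringEquiv
    (IsLocalization.algEquiv p.asIdeal.primeCompl (Localization.AtPrime P) (X.presheaf.stalk z)).toRingEquiv

end Groth.Agent.ResolveLib
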