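import Groth.Agent.H23.GysinPb
import Mathlib.AlgebraicGeometry.Morphisms.ClosedImmersion
import Mathlib.AlgebraicGeometry.Morphisms.Affine
import Mathlib.AlgebraicGeometry.AffineScheme
import Mathlib.RingTheory.AdicCompletion.LocalRing
import Mathlib.RingTheory.AdicCompletion.Completeness

/-!
# Quotients of local rings under base change to a completion
-/

set_option autoImplicit false
set_option linter.style.haveILetI false

universe u

open CategoryTheory Limits AlgebraicGeometry IsLocalRing

namespace Groth.Agent.ResolveLib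

theorem ker_stalkMap_Spec_le {R S : CommRingCat.{u}} [IsLocalRing R] [IsLocalRing S] (φ : R ⟶ S)
    (hφ : Function.Surjective φ.hom) (n : ℕ) (hk : RingHom.ker φ.hom ≤ maximalIdeal R ^ n)
    (d : Spec S) (hd : d = closedPoint S) :
    RingHom.ker ((Spec.map φ).stalkMap d).hom ≤
      maximalIdeal ((Spec R).presheaf.stalk (Spec.map φ d)) ^ n := by
  subst hd
  haveI : IsLocalHom φ.hom := IsLocalHom.of_surjective _ hφ
  let x : PrimeSpectrum R := PrimeSpectrum.comap φ.hom (closedPoint S)
  have hx : x.asIdeal = maximalIdeal R := congrArg PrimeSpectrum.asIdeal (comap_closedPoint φ.hom)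
  let τ : R →+* (Spec.structureSheaf R).presheaf.stalk x := algebraMap R _
  have hτs : Function.Surjective τ := by
    intro a
    obtain ⟨r, s, rfl⟩ := IsLocalization.exists_mk'_eq (S := (Spec.structureSheaf R).presheaf.stalk x)
      x.asIdeal.primeCompl a
    have hs : IsUnit (s : R) := by
      by_contra hu
      exact s.2 (hx.ge hu)
    obtain ⟨v, hv⟩ := hs.exists_left_inv
    refine ⟨r * v, ?_⟩
    rw [eq_comm, IsLocalization.mk'_eq_iff_eq_mul]
    show algebraMap R _ r = τ (r * v) * τ s
    rw [← map_mul, mul_assoc, hv, mul_one]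
  have hinj : Function.Injective (StructureSheaf.toStalk S (closedPoint S)).hom := by
    rw [← stalkClosedPointIso_inv]
    exact (ConcreteCategory.bijective_of_isIso (stalkClosedPointIso S).inv).1
  intro a ha
  obtain ⟨r, hr⟩ := hτs a
  subst hr
  have e : ((Spec.map φ).stalkMap (closedPoint S)).hom (τ r) =
      (StructureSheaf.toStalk S (closedPoint S)).hom (φ.hom r) :=
    stalkMap_toStalk_apply φ (closedPoint S) r
  replace ha : ((Spec.map φ).stalkMap (closedPoint S)).hom (τ r) = 0 := ha
  have hr : r ∈ maximalIdeal R ^ n := hk (hinj ((e.symm.trans ha).trans (map_zero _).symm))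
  have hτloc : (maximalIdeal R).map τ ≤
      maximalIdeal ((Spec R).presheaf.stalk (Spec.map φ (closedPoint S))) := by
    refine Ideal.map_le_iff_le_comap.mpr fun y hy (h : IsUnit (τ y)) => ?_
    exact ((IsLocalization.AtPrime.isUnit_to_map_iff
      ((Spec.structureSheaf R).presheaf.stalk x) x.asIdeal y).mp h) (hx.ge hy)
  refine Ideal.pow_right_mono hτloc n ?_
  rw [← Ideal.map_pow]
  exact Ideal.mem_map_of_mem τ hr

theorem ker_stalkMap_congr_le {X W : Scheme.{u}} {g j : W ⟶ X} (e : g = j) (w : W) (n : ℕ)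
    (h : RingHom.ker (g.stalkMap w).hom ≤ maximalIdeal (X.presheaf.stalk (g w)) ^ n) :
    RingHom.ker (j.stalkMap w).hom ≤ maximalIdeal (X.presheaf.stalk (j w)) ^ n := e ▸ h

theorem ker_stalkMap_le_of_isPullback {X W : Scheme.{u}} {R : CommRingCat.{u}} {T : CommRingCat.{u}}
    [IsLocalRing R] [IsLocalRing T] (φ : R ⟶ T) (hφ : Function.Surjective φ.hom) (n : ℕ)
    (hk : RingHom.ker φ.hom ≤ maximalIdeal R ^ n) (f : X ⟶ Spec R) {j : W ⟶ X} {t : W ⟶ Spec T}
    (H : IsPullback j t f (Spec.map φ)) (w : W) (hw : f (j w) = closedPoint R) :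
    RingHom.ker (j.stalkMap w).hom ≤ maximalIdeal (X.presheaf.stalk (j w)) ^ n := by
  haveI : IsClosedImmersion (Spec.map φ) := IsClosedImmersion.spec_of_surjective φ hφ
  haveI : IsLocalHom φ.hom := IsLocalHom.of_surjective _ hφ
  let i := Spec.map φ
  let z := H.isoPullback.hom w
  have hd : pullback.snd f i z = closedPoint T := by
    apply i.isClosedEmbedding.injective
    rw [← H23.GysinPb.apply_fst_eq f i z, ← Scheme.Hom.comp_apply H.isoPullback.hom,
      IsPullback.isoPullback_hom_fst, hw]
    exact (comap_closedPoint φ.hom).symm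
  have h1 : RingHom.ker ((pullback.fst f i).stalkMap z).hom ≤
      maximalIdeal (X.presheaf.stalk (pullback.fst f i z)) ^ n := by
    refine (H23.GysinPb.ker_stalkMap_fst_le f i z).trans ?_
    refine (Ideal.map_mono (ker_stalkMap_Spec_le φ hφ n hk _ hd)).trans ?_
    rw [Ideal.map_pow]
    refine Ideal.pow_right_mono ?_ n
    refine Ideal.map_le_iff_le_comap.mpr fun y hy => ?_
    rw [Ideal.mem_comap, mem_maximalIdeal, mem_nonunits_iff]
    rw [mem_maximalIdeal, mem_nonunits_iff] at hy
    show ¬ IsUnit ((f.stalkMap (pullback.fst f i z)).hom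
      (((Spec R).presheaf.stalkSpecializes (specializes_of_eq (H23.GysinPb.apply_fst_eq f i z))).hom y))
    exact fun hu => hy (isUnit_of_map_unit
      ((Spec R).presheaf.stalkCongr (Inseparable.of_eq (H23.GysinPb.apply_fst_eq f i z).symm)).hom.hom _
      (isUnit_of_map_unit (f.stalkMap (pullback.fst f i z)).hom _ hu))
  have e : H.isoPullback.hom ≫ pullback.fst f i = j := IsPullback.isoPullback_hom_fst _
  refine ker_stalkMap_congr_le e w n fun a ha => ?_
  rw [RingHom.mem_ker, Scheme.Hom.stalkMap_comp] at ha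
  change (H.isoPullback.hom.stalkMap w).hom (((pullback.fst f i).stalkMap z).hom a) = 0 at ha
  exact h1 ((ConcreteCategory.bijective_of_isIso (H.isoPullback.hom.stalkMap w)).1
    (ha.trans (map_zero _).symm))

end Groth.Agent.ResolveLib
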